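import Mathlib

/-!
# Complements on weakly regular sequences
-/

universe u

open RingTheory.Sequence Function
open scoped Pointwise

namespace Groth.Agent.CInt15

variable {A : Type u} [CommRing A]

lemma le_ker_of_pointwise {M N : Type u} [AddCommGroup M] [Module A M] [AddCommGroup N]
    [Module A N] {a : A} (f : M →ₗ[A] N) (h : ∀ y : N, a • y = 0) :
    a • (⊤ : Submodule A M) ≤ LinearMap.ker f := fun x hx ↦ by
  obtain ⟨y, -, rfl⟩ := (Submodule.mem_smul_pointwise_iff_exists _ _ _).mp hx
  simp [h]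

/-- Weakly regular sequences are stable under extensions. -/
theorem isWeaklyRegular_of_exact (fs : List A) : ∀ {M₁ M₂ M₃ : Type u} [AddCommGroup M₁]
    [AddCommGroup M₂] [AddCommGroup M₃] [Module A M₁] [Module A M₂] [Module A M₃]
    (i : M₁ →ₗ[A] M₂) (p : M₂ →ₗ[A] M₃), Injective i → Exact i p → Surjective p →
      IsWeaklyRegular M₁ fs → IsWeaklyRegular M₃ fs → IsWeaklyRegular M₂ fs := by
  induction fs with
  | nil => intros; exact IsWeaklyRegular.nil A _
  | cons f fs ih =>
    intro M₁ M₂ M₃ _ _ _ _ _ _ i p hi hex hp h₁ h₃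
    rw [isWeaklyRegular_cons_iff] at h₁ h₃ ⊢
    refine ⟨fun x y hxy ↦ ?_, ?_⟩
    · have h := h₃.1 (show f • p x = f • p y by
        rw [← map_smul, ← map_smul]; exact congrArg p hxy)
      obtain ⟨z, hz⟩ := (hex (x - y)).mp (by rw [map_sub, h, sub_self])
      have : z = 0 := h₁.1 (hi (show i (f • z) = i (f • 0) by
        rw [map_smul, hz, smul_sub, smul_zero, map_zero]; exact sub_eq_zero.mpr hxy))
      rwa [this, map_zero, eq_comm, sub_eq_zero] at hz
    · refine ih (QuotSMulTop.map f i) (QuotSMulTop.map f p) ?_ (QuotSMulTop.map_exact f hex hp)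
        (QuotSMulTop.map_surjective f hp) h₁.2 h₃.2
      have h0 : Exact (0 : PUnit.{u+1} →ₗ[A] M₁) i :=
        (LinearMap.exact_zero_iff_injective _ _).mpr hi
      have := QuotSMulTop.map_first_exact_on_four_term_exact_of_isSMulRegular_last h0 hex h₃.1
      rw [map_zero] at this
      exact (LinearMap.exact_zero_iff_injective _ _).mp this

lemma isWeaklyRegular_of_subsingleton {M : Type u} [AddCommGroup M] [Module A M] [Subsingleton M]
    (fs : List A) : IsWeaklyRegular M fs :=
  ⟨fun i h x y _ ↦ by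
    obtain ⟨x, rfl⟩ := Submodule.Quotient.mk_surjective _ x
    obtain ⟨y, rfl⟩ := Submodule.Quotient.mk_surjective _ y
    rw [Subsingleton.elim x y]⟩

/-- If `fs` is weakly regular on `M ⧸ N`, then `(fs) M ∩ N = (fs) N`. -/
theorem mem_smul_top_of_isWeaklyRegular {M : Type u} [AddCommGroup M] [Module A M]
    (N : Submodule A M) (fs : List A) (h : IsWeaklyRegular (M ⧸ N) fs) (x : N)
    (hx : (x : M) ∈ Ideal.ofList fs • (⊤ : Submodule A M)) :
    x ∈ Ideal.ofList fs • (⊤ : Submodule A N) := by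
  have h12 : Exact (0 : PUnit.{u+1} →ₗ[A] N) N.subtype :=
    (LinearMap.exact_zero_iff_injective _ _).mpr Subtype.val_injective
  have hex := map_first_exact_on_four_term_right_exact_of_isSMulRegular_last h12
    (LinearMap.exact_subtype_mkQ N) (Submodule.mkQ_surjective N) h
  have h0 := (hex (Submodule.Quotient.mk x)).mp ((Submodule.Quotient.mk_eq_zero _).mpr hx)
  obtain ⟨z, hz⟩ := h0
  obtain ⟨z, rfl⟩ := Submodule.Quotient.mk_surjective _ z
  rw [Submodule.mapQ_apply, LinearMap.zero_apply] at hz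
  exact (Submodule.Quotient.mk_eq_zero _).mp hz.symm

/-- An element regular modulo a weakly regular sequence in the Jacobson radical is regular. -/
theorem isSMulRegular_of_quot [IsNoetherianRing A] (fs : List A) :
    ∀ {M : Type u} [AddCommGroup M] [Module A M] [Module.Finite A M],
      (∀ f ∈ fs, f ∈ (⊥ : Ideal A).jacobson) → IsWeaklyRegular M fs → ∀ s : A,
        IsSMulRegular (M ⧸ Ideal.ofList fs • (⊤ : Submodule A M)) s → IsSMulRegular M s := by
  induction fs with
  | nil =>
    intro M _ _ _ _ _ s h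
    exact ((Submodule.quotEquivOfEqBot _ (by simp)).isSMulRegular_congr s).mp h
  | cons f fs ih =>
    intro M _ _ _ hjac hreg s hs
    rw [isWeaklyRegular_cons_iff] at hreg
    have h1 : IsSMulRegular (QuotSMulTop f M) s :=
      ih (fun g hg ↦ hjac g (List.mem_cons_of_mem _ hg)) hreg.2 s
        (((Submodule.quotOfListConsSMulTopEquivQuotSMulTopInner M f fs).isSMulRegular_congr s).mp hs)
    rw [isSMulRegular_iff_right_eq_zero_of_smul]
    intro x hx
    have : ∀ j : ℕ, ∀ x : M, s • x = 0 → x ∈ Ideal.span {f} ^ j • (⊤ : Submodule A M) := by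
      intro j
      induction j with
      | zero => simp
      | succ j hj =>
        intro x hx
        have hmem : x ∈ f • (⊤ : Submodule A M) := by
          rw [← Submodule.Quotient.mk_eq_zero]
          exact h1.right_eq_zero_of_smul (by rw [← Submodule.Quotient.mk_smul, hx]; rfl)
        obtain ⟨y, -, rfl⟩ := (Submodule.mem_smul_pointwise_iff_exists _ _ _).mp hmem
        rw [pow_succ', Submodule.mul_smul]
        refine Submodule.smul_mem_smul (Ideal.mem_span_singleton_self f) (hj y ?_)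
        exact hreg.1.right_eq_zero_of_smul (by rw [smul_comm]; exact hx)
    have hj : Ideal.span {f} ≤ (⊥ : Ideal A).jacobson :=
      (Ideal.span_singleton_le_iff_mem _).mpr (hjac f List.mem_cons_self)
    rw [← Submodule.mem_bot A, ← Ideal.iInf_pow_smul_eq_bot_of_le_jacobson (M := M) _ hj,
      Submodule.mem_iInf]
    exact fun j ↦ this j x hx

/-- `fs` is a regular sequence on `G` up to torsion prime to `q`. -/
def RegAt (q : Ideal A) : List A → ∀ (G : Type u) [AddCommGroup G] [Module A G], Prop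
  | [], _, _, _ => True
  | f :: fs, G, _, _ =>
      (∀ x : G, f • x = 0 → ∃ t, t ∉ q ∧ t • x = 0) ∧ RegAt q fs (QuotSMulTop f G)

theorem regAt_of_map (q : Ideal A) [q.IsPrime] (fs : List A) : ∀ {G Z : Type u} [AddCommGroup G]
    [Module A G] [AddCommGroup Z] [Module A Z] (η : G →ₗ[A] Z),
      (∀ x, η x = 0 → ∃ t, t ∉ q ∧ t • x = 0) → (∀ z, ∃ t x, t ∉ q ∧ t • z = η x) →
      IsWeaklyRegular Z fs → RegAt q fs G := by
  induction fs with
  | nil => intros; exact trivial
  | cons f fs ih =>
    intro G Z _ _ _ _ η hker hsurj hreg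
    rw [isWeaklyRegular_cons_iff] at hreg
    refine ⟨fun x hx ↦ hker x (hreg.1.right_eq_zero_of_smul (by rw [← map_smul, hx, map_zero])),
      ih (QuotSMulTop.map f η) (fun x hx ↦ ?_) (fun z ↦ ?_) hreg.2⟩
    · obtain ⟨x, rfl⟩ := Submodule.Quotient.mk_surjective _ x
      rw [QuotSMulTop.map_apply_mk, Submodule.Quotient.mk_eq_zero] at hx
      obtain ⟨z, -, hz⟩ := (Submodule.mem_smul_pointwise_iff_exists _ _ _).mp hx
      obtain ⟨t, y, ht, hty⟩ := hsurj z
      obtain ⟨s, hs, hsx⟩ := hker (t • x - f • y)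
        (by rw [map_sub, map_smul, map_smul, ← hty, ← hz, smul_comm, sub_self])
      refine ⟨s * t, fun h ↦ (Ideal.IsPrime.mem_or_mem ‹_› h).elim hs ht, ?_⟩
      rw [← Submodule.Quotient.mk_smul, Submodule.Quotient.mk_eq_zero, mul_smul]
      rw [smul_sub, sub_eq_zero] at hsx
      rw [hsx, smul_comm]
      exact Submodule.smul_mem_pointwise_smul _ f _ trivial
    · obtain ⟨z, rfl⟩ := Submodule.Quotient.mk_surjective _ z
      obtain ⟨t, y, ht, hty⟩ := hsurj z
      exact ⟨t, Submodule.Quotient.mk y, ht, by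
        rw [QuotSMulTop.map_apply_mk, ← hty]; rfl⟩

theorem RegAt.congr {q : Ideal A} {fs : List A} : ∀ {G G' : Type u} [AddCommGroup G]
    [Module A G] [AddCommGroup G'] [Module A G'], (G ≃ₗ[A] G') → RegAt q fs G → RegAt q fs G' := by
  induction fs with
  | nil => intros; exact trivial
  | cons f fs ih =>
    intro G G' _ _ _ _ e h
    refine ⟨fun x hx ↦ ?_, ih (QuotSMulTop.congr f e) h.2⟩
    obtain ⟨t, ht, htx⟩ := h.1 (e.symm x) (by rw [← map_smul, hx, map_zero])
    exact ⟨t, ht, e.symm.injective (by rw [map_smul, htx, map_zero])⟩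

/-- An element killing `x` and regular on `A ⧸ Q`, if every associated prime misses a killer. -/
theorem exists_isSMulRegular_smul_eq_zero [IsNoetherianRing A] (Q : Ideal A) {G : Type u}
    [AddCommGroup G] [Module A G] (x : G)
    (h : ∀ q ∈ associatedPrimes A (A ⧸ Q), ∃ t : A, t ∉ q ∧ t • x = 0) :
    ∃ s : A, IsSMulRegular (A ⧸ Q) s ∧ s • x = 0 := by
  let J : Ideal A := LinearMap.ker (LinearMap.toSpanSingleton A G x)
  have : ¬ (J : Set A) ⊆ ⋃ q ∈ associatedPrimes A (A ⧸ Q), (q : Ideal A) := by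
    intro hsub
    obtain ⟨q, hq, hle⟩ := (Ideal.subset_union_prime_finite (associatedPrimes.finite A (A ⧸ Q))
      (f := id) ⊥ ⊥ fun q hq _ _ ↦ hq.1).mp hsub
    obtain ⟨t, ht, htx⟩ := h q hq
    exact ht (hle htx)
  obtain ⟨s, hs, hsn⟩ := Set.not_subset.mp this
  refine ⟨s, ?_, hs⟩
  rw [isSMulRegular_iff_right_eq_zero_of_smul]
  intro y hy
  by_contra hy0
  rw [biUnion_associatedPrimes_eq_zero_divisors] at hsn
  exact hsn ⟨y, hy0, hy⟩

end Groth.Agent.CInt15
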