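import Groth.Agent.CInt15.RegularSeq

/-!
# Normal flatness along `R` and along `R + (f₁, …, fₙ)` (Hironaka)
-/

universe u

open RingTheory.Sequence Function
open scoped Pointwise

namespace Groth.Agent.CInt15

variable {A : Type u} [CommRing A]

/-- `P ⧸ I P` is flat over `A ⧸ I`. -/
abbrev Fl (I : Ideal A) (P : Type u) [AddCommGroup P] [Module A P] : Prop :=
  Module.Flat (A ⧸ I) (P ⧸ (I • ⊤ : Submodule A P))

instance (I : Ideal A) (P : Type u) [AddCommGroup P] [Module A P] :
    IsScalarTower A (A ⧸ I) (P ⧸ (I • ⊤ : Submodule A P)) :=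
  .of_algebraMap_smul fun a x ↦ by
    obtain ⟨x, rfl⟩ := Submodule.Quotient.mk_surjective _ x; rfl

/-- `A`-linear maps between modules over `A ⧸ I` are `A ⧸ I`-linear. -/
abbrev ext' {I : Ideal A} {M N : Type u} [AddCommGroup M] [Module A M] [AddCommGroup N] [Module A N]
    [Module (A ⧸ I) M] [Module (A ⧸ I) N] [IsScalarTower A (A ⧸ I) M] [IsScalarTower A (A ⧸ I) N]
    (f : M →ₗ[A] N) : M →ₗ[A ⧸ I] N :=
  f.extendScalarsOfSurjective Ideal.Quotient.mk_surjective

lemma fl_of_retract {I : Ideal A} {P : Type u} [AddCommGroup P] [Module A P] {N : Type u}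
    [AddCommGroup N] [Module A N] [Module (A ⧸ I) N] [IsScalarTower A (A ⧸ I) N]
    [Module.Flat (A ⧸ I) N] (i : P ⧸ (I • ⊤ : Submodule A P) →ₗ[A] N)
    (r : N →ₗ[A] P ⧸ (I • ⊤ : Submodule A P)) (h : r ∘ₗ i = LinearMap.id) : Fl I P :=
  Module.Flat.of_retract (ext' i) (ext' r) (LinearMap.ext fun x ↦ LinearMap.congr_fun h x)

/-- `(P ⧸ I P) ⧸ J ≅ P ⧸ (I + J) P`. -/
noncomputable def quotQuot (I J : Ideal A) (P : Type u) [AddCommGroup P] [Module A P] :
    ((P ⧸ (I • ⊤ : Submodule A P)) ⧸ (J • ⊤ : Submodule A (P ⧸ (I • ⊤ : Submodule A P)))) ≃ₗ[A]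
      P ⧸ ((I ⊔ J) • ⊤ : Submodule A P) :=
  (Submodule.quotEquivOfEq _ _ (by rw [Submodule.map_smul'', Submodule.map_top,
      Submodule.range_mkQ])).trans
    ((Submodule.quotientQuotientEquivQuotientSup (I • ⊤ : Submodule A P) (J • ⊤)).trans
      (Submodule.quotEquivOfEq _ _ (Submodule.sup_smul I J ⊤).symm))

/-- `QuotSMulTop f (P ⧸ I P) ≅ P ⧸ (I + (f)) P`. -/
noncomputable def quotSMulEquiv (I : Ideal A) (f : A) (P : Type u) [AddCommGroup P] [Module A P] :
    QuotSMulTop f (P ⧸ (I • ⊤ : Submodule A P)) ≃ₗ[A]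
      P ⧸ ((I ⊔ Ideal.span {f}) • ⊤ : Submodule A P) :=
  (Submodule.quotEquivOfEq _ _ (Submodule.ideal_span_singleton_smul f ⊤).symm).trans
    (quotQuot I (Ideal.span {f}) P)

/-- `QuotSMulTop f (A ⧸ I) ≅ A ⧸ (I + (f))`. -/
noncomputable def quotSMulRingEquiv (I : Ideal A) (f : A) :
    QuotSMulTop f (A ⧸ I) ≃ₗ[A] A ⧸ (I ⊔ Ideal.span {f}) :=
  (QuotSMulTop.congr f (Submodule.quotEquivOfEq I _ (by simp))).trans
    ((quotSMulEquiv I f A).trans (Submodule.quotEquivOfEq _ _ (by simp)))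

lemma fl_quot_iff {I J : Ideal A} (h : I ≤ J) (P : Type u) [AddCommGroup P] [Module A P] :
    Fl J (P ⧸ (I • ⊤ : Submodule A P)) ↔ Fl J P := by
  have e : ((P ⧸ (I • ⊤ : Submodule A P)) ⧸ (J • ⊤ : Submodule A (P ⧸ (I • ⊤ : Submodule A P))))
      ≃ₗ[A] P ⧸ (J • ⊤ : Submodule A P) :=
    (quotQuot I J P).trans (Submodule.quotEquivOfEq _ _ (by rw [sup_eq_right.mpr h]))
  constructor <;> intro hfl
  · exact fl_of_retract e.symm.toLinearMap e.toLinearMap (LinearMap.ext e.apply_symm_apply)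
  · exact fl_of_retract e.toLinearMap e.symm.toLinearMap (LinearMap.ext e.symm_apply_apply)

lemma fl_congr {I : Ideal A} {P P' : Type u} [AddCommGroup P] [Module A P] [AddCommGroup P']
    [Module A P'] (e : P ≃ₗ[A] P') (h : Fl I P) : Fl I P' := by
  refine fl_of_retract (Submodule.mapQ _ _ e.symm.toLinearMap (Submodule.smul_top_le_comap_smul_top I _))
    (Submodule.mapQ _ _ e.toLinearMap (Submodule.smul_top_le_comap_smul_top I _)) ?_
  ext x; simp

variable [IsNoetherianRing A]

lemma fl_iff {I : Ideal A} {P : Type u} [AddCommGroup P] [Module A P] [Module.Finite A P] {m : ℕ}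
    (g : (Fin m → A ⧸ I) →ₗ[A ⧸ I] P ⧸ (I • ⊤ : Submodule A P)) (hg : Surjective g) :
    Fl I P ↔ ∃ s : P ⧸ (I • ⊤ : Submodule A P) →ₗ[A] (Fin m → A ⧸ I),
      ∀ x, g (s x) = x := by
  refine ⟨fun _ ↦ ?_, fun ⟨s, hs⟩ ↦ fl_of_retract s (g.restrictScalars A) (LinearMap.ext hs)⟩
  have : Module.Finite (A ⧸ I) (P ⧸ (I • ⊤ : Submodule A P)) := Module.Finite.of_surjective g hg
  have : Module.FinitePresentation (A ⧸ I) (P ⧸ (I • ⊤ : Submodule A P)) :=
    Module.finitePresentation_of_finite _ _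
  have : Module.Projective (A ⧸ I) (P ⧸ (I • ⊤ : Submodule A P)) :=
    Module.Flat.projective_of_finitePresentation
  obtain ⟨s, hs⟩ := Module.projective_lifting_property g LinearMap.id hg
  exact ⟨s.restrictScalars A, LinearMap.congr_fun hs⟩

/-- One element: flatness over `A ⧸ R` versus `A ⧸ (R + (f))`. -/
theorem fl_step (R : Ideal A) {f : A} (hf : f ∈ (⊥ : Ideal A).jacobson)
    (hreg : IsSMulRegular (A ⧸ R) f) (P : Type u) [AddCommGroup P] [Module A P]
    [Module.Finite A P] :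
    Fl R P ↔ Fl (R ⊔ Ideal.span {f}) P ∧ IsSMulRegular (P ⧸ (R • ⊤ : Submodule A P)) f := by
  classical
  set R' := R ⊔ Ideal.span {f}
  have hR : R ≤ R' := le_sup_left
  obtain ⟨m, g₀, hg₀⟩ := Module.Finite.exists_fin' A P
  let e : Fin m → P := fun i ↦ g₀ (Pi.single i 1)
  let g : (Fin m → A ⧸ R) →ₗ[A ⧸ R] P ⧸ (R • ⊤ : Submodule A P) :=
    Fintype.linearCombination (A ⧸ R) fun i ↦ Submodule.Quotient.mk (e i)
  let g' : (Fin m → A ⧸ R') →ₗ[A ⧸ R'] P ⧸ (R' • ⊤ : Submodule A P) :=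
    Fintype.linearCombination (A ⧸ R') fun i ↦ Submodule.Quotient.mk (e i)
  have hgen : ∀ (I : Ideal A),
      Surjective (Fintype.linearCombination (A ⧸ I)
        (fun i ↦ (Submodule.Quotient.mk (e i) : P ⧸ (I • ⊤ : Submodule A P)))) := fun I x ↦ by
    obtain ⟨x, rfl⟩ := Submodule.Quotient.mk_surjective _ x
    obtain ⟨c, rfl⟩ := hg₀ x
    refine ⟨fun i ↦ Ideal.Quotient.mk I (c i), ?_⟩
    rw [Fintype.linearCombination_apply, LinearMap.pi_apply_eq_sum_univ g₀ c,
      ← Submodule.mkQ_apply, map_sum]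
    refine Finset.sum_congr rfl fun i _ ↦ ?_
    rw [map_smul, ← algebraMap_smul (A ⧸ I) (c i)]
    refine congrArg _ (congrArg _ (congrArg g₀ ?_))
    ext j; simp [Pi.single_apply, eq_comm]
  let ρ : (Fin m → A ⧸ R) →ₗ[A] (Fin m → A ⧸ R') :=
    (Submodule.factor hR).compLeft (Fin m)
  let π : P ⧸ (R • ⊤ : Submodule A P) →ₗ[A] P ⧸ (R' • ⊤ : Submodule A P) :=
    Submodule.factor (Submodule.smul_mono_left hR)
  have hπρ : ∀ x, π (g x) = g' (ρ x) := fun x ↦ by
    simp only [g, g', Fintype.linearCombination_apply, map_sum]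
    refine Finset.sum_congr rfl fun i _ ↦ ?_
    obtain ⟨a, ha⟩ := Ideal.Quotient.mk_surjective (x i)
    change π (x i • _) = Submodule.factor hR (x i) • _
    rw [← ha]
    rfl
  have hρf : ∀ x, ρ (f • x) = 0 := fun x ↦ funext fun i ↦ by
    obtain ⟨a, ha⟩ := Ideal.Quotient.mk_surjective (x i)
    change Submodule.factor hR (f • x i) = 0
    rw [← ha]
    exact Ideal.Quotient.eq_zero_iff_mem.mpr
      (Ideal.mul_mem_right a R' (Ideal.mem_sup_right (Ideal.mem_span_singleton_self f)))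
  have hregF : IsSMulRegular (Fin m → A ⧸ R) f := fun x y h ↦ funext fun i ↦ hreg (congrFun h i)
  constructor
  · intro h
    obtain ⟨s, hs⟩ := (fl_iff g (hgen R)).mp h
    refine ⟨(fl_iff g' (hgen R')).mpr
      ⟨Submodule.liftQ _ (ρ ∘ₗ s ∘ₗ Submodule.mkQ _) ?_, fun x ↦ ?_⟩, fun x y hxy ↦ ?_⟩
    · rw [Submodule.smul_le]
      intro r hr x _
      rw [LinearMap.mem_ker, map_smul]
      funext i
      rw [Pi.smul_apply, Pi.zero_apply, ← algebraMap_smul (A ⧸ R'), Ideal.Quotient.algebraMap_eq,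
        Ideal.Quotient.eq_zero_iff_mem.mpr hr, zero_smul]
    · obtain ⟨x, rfl⟩ := Submodule.Quotient.mk_surjective _ x
      rw [Submodule.liftQ_apply, LinearMap.comp_apply, LinearMap.comp_apply, ← hπρ, hs]
      rfl
    · rw [← hs x, ← hs y, hregF (show f • s x = f • s y by rw [← map_smul, ← map_smul]; exact congrArg s hxy)]
  · rintro ⟨hfl, hregN⟩
    obtain ⟨σ, hσ⟩ := (fl_iff g' (hgen R')).mp hfl
    let L : Submodule (A ⧸ R) (Fin m → A ⧸ R) := LinearMap.ker g
    have hex : ∀ i, ∃ k : L, ρ k = ρ (Pi.single i 1) - σ (g' (ρ (Pi.single i 1))) := by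
      intro i
      set z := ρ (Pi.single i 1) - σ (g' (ρ (Pi.single i 1))) with hz
      have hρs : Surjective ρ := fun w ↦ by
        choose a ha using fun j ↦ Ideal.Quotient.mk_surjective (w j)
        exact ⟨fun j ↦ Ideal.Quotient.mk R (a j), funext fun j ↦ ha j⟩
      obtain ⟨y, hy⟩ := hρs z
      have hker : π (g y) = 0 := by rw [hπρ, hy, hz, map_sub, hσ, sub_self]
      obtain ⟨w, hw⟩ : ∃ w, g y = f • w := by
        obtain ⟨p, hp⟩ := Submodule.Quotient.mk_surjective _ (g y)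
        rw [← hp] at hker ⊢
        have : p ∈ R' • (⊤ : Submodule A P) := (Submodule.Quotient.mk_eq_zero _).mp hker
        rw [Submodule.sup_smul, Submodule.ideal_span_singleton_smul, Submodule.mem_sup] at this
        obtain ⟨p₁, hp₁, p₂, hp₂, rfl⟩ := this
        obtain ⟨w, -, rfl⟩ := (Submodule.mem_smul_pointwise_iff_exists _ _ _).mp hp₂
        exact ⟨Submodule.Quotient.mk w, by
          rw [Submodule.Quotient.mk_add, (Submodule.Quotient.mk_eq_zero _).mpr hp₁, zero_add]; rfl⟩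
      obtain ⟨y', rfl⟩ := hgen R w
      refine ⟨⟨y - f • y', ?_⟩, ?_⟩
      · rw [LinearMap.mem_ker, map_sub, LinearMap.map_smul_of_tower, hw, sub_self]
      · rw [map_sub, hρf, sub_zero, hy]
    choose k hk using hex
    let l : (Fin m → A ⧸ R) →ₗ[A ⧸ R] L := Fintype.linearCombination (A ⧸ R) k
    have hl : ∀ x, ρ (l x) = ρ x - σ (g' (ρ x)) := by
      intro x
      have : ρ ∘ₗ (L.subtype ∘ₗ l).restrictScalars A =
          ρ - σ ∘ₗ (g'.restrictScalars A) ∘ₗ ρ := by
        refine LinearMap.pi_ext fun i a ↦ ?_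
        obtain ⟨a, rfl⟩ := Ideal.Quotient.mk_surjective a
        rw [show (Pi.single i (Ideal.Quotient.mk R a) : Fin m → A ⧸ R) = a • Pi.single i 1 by
          ext j; by_cases h : j = i <;> simp [Pi.single_apply, h, Algebra.smul_def]]
        rw [map_smul, map_smul]
        congr 1
        simp [l, hk]
      exact LinearMap.congr_fun this x
    let φ : L →ₗ[A ⧸ R] L := l ∘ₗ L.subtype
    have hφ : Surjective φ := by
      rw [← LinearMap.range_eq_top, eq_top_iff]
      refine Submodule.le_of_le_smul_of_le_jacobson_bot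
        (I := Ideal.span {Ideal.Quotient.mk R f}) (IsNoetherian.noetherian _) ?_ fun x _ ↦ ?_
      · rw [Ideal.span_singleton_le_iff_mem]
        have h := Ideal.mem_map_of_mem (Ideal.Quotient.mk R)
          (Ideal.jacobson_mono (bot_le : ⊥ ≤ R) hf)
        rwa [Ideal.map_jacobson_of_surjective Ideal.Quotient.mk_surjective (by rw [Ideal.mk_ker]),
          Ideal.map_quotient_self] at h
      · have hρ0 : ρ ((φ x : Fin m → A ⧸ R) - x) = 0 := by
          rw [map_sub]
          change ρ (l (x : Fin m → A ⧸ R)) - ρ x = 0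
          rw [hl, ← hπρ, LinearMap.mem_ker.mp x.2, map_zero, map_zero, sub_zero, sub_self]
        have : ∀ i, ∃ b, ((φ x : Fin m → A ⧸ R) - x) i = f • b := fun i ↦ by
          obtain ⟨a, ha⟩ := Ideal.Quotient.mk_surjective (((φ x : Fin m → A ⧸ R) - x) i)
          have h0 : a ∈ R' := by
            rw [← Ideal.Quotient.eq_zero_iff_mem]
            have := congrFun hρ0 i
            change Submodule.factor hR (((φ x : Fin m → A ⧸ R) - x) i) = 0 at this
            rw [← ha] at this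
            exact this
          obtain ⟨a₁, ha₁, a₂, ha₂, rfl⟩ := Submodule.mem_sup.mp h0
          obtain ⟨b, rfl⟩ := Ideal.mem_span_singleton'.mp ha₂
          exact ⟨Ideal.Quotient.mk R b, by
            rw [← ha, map_add, Ideal.Quotient.eq_zero_iff_mem.mpr ha₁, zero_add, mul_comm]; rfl⟩
        choose b hb using this
        have hb' : (φ x : Fin m → A ⧸ R) - x = f • b := funext hb
        have hbL : b ∈ L := by
          refine LinearMap.mem_ker.mpr (hregN.right_eq_zero_of_smul ?_)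
          rw [← LinearMap.map_smul_of_tower, ← hb', map_sub, LinearMap.mem_ker.mp (φ x).2,
            LinearMap.mem_ker.mp x.2, sub_self]
        rw [Submodule.mem_sup]
        refine ⟨φ x, LinearMap.mem_range_self _ _, -(Ideal.Quotient.mk R f • (⟨b, hbL⟩ : L)),
          Submodule.neg_mem _ (Submodule.smul_mem_smul (Ideal.mem_span_singleton_self _) trivial),
          Subtype.ext ?_⟩
        have : Ideal.Quotient.mk R f • b = f • b := algebraMap_smul (A ⧸ R) f b
        simp [this, ← hb']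
    have hφb : Bijective φ := ⟨OrzechProperty.injective_of_surjective_endomorphism φ hφ, hφ⟩
    let φe := LinearEquiv.ofBijective φ hφb
    let q : (Fin m → A ⧸ R) →ₗ[A ⧸ R] (Fin m → A ⧸ R) :=
      LinearMap.id - L.subtype ∘ₗ φe.symm.toLinearMap ∘ₗ l
    refine (fl_iff g (hgen R)).mpr ⟨((L.liftQ q fun x hx ↦ ?_) ∘ₗ
      (g.quotKerEquivOfSurjective (hgen R)).symm.toLinearMap).restrictScalars A, fun x ↦ ?_⟩
    · have : φe.symm (l x) = ⟨x, hx⟩ := φe.symm_apply_eq.mpr rfl
      simp [q, this]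
    · obtain ⟨y, rfl⟩ := hgen R x
      have : (g.quotKerEquivOfSurjective (hgen R)).symm (g y) = Submodule.Quotient.mk y := by
        rw [LinearEquiv.symm_apply_eq]; rfl
      simp only [LinearMap.coe_restrictScalars, LinearMap.comp_apply, LinearEquiv.coe_coe]
      rw [this, Submodule.liftQ_apply]
      simp [q, LinearMap.mem_ker.mp (φe.symm (l y)).2]
      rfl

/-- Several elements. -/
theorem fl_iff_fl_sup (fs : List A) : ∀ (R : Ideal A), (∀ f ∈ fs, f ∈ (⊥ : Ideal A).jacobson) →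
    IsWeaklyRegular (A ⧸ R) fs → ∀ (P : Type u) [AddCommGroup P] [Module A P] [Module.Finite A P],
      (Fl R P ↔ Fl (R ⊔ Ideal.ofList fs) P ∧
        IsWeaklyRegular (P ⧸ (R • ⊤ : Submodule A P)) fs) := by
  induction fs with
  | nil =>
    intro R _ _ P _ _ _
    rw [Ideal.ofList_nil, sup_bot_eq]
    exact ⟨fun h ↦ ⟨h, IsWeaklyRegular.nil A _⟩, And.left⟩
  | cons f fs ih =>
    intro R hjac hreg P _ _ _
    rw [isWeaklyRegular_cons_iff] at hreg
    rw [fl_step R (hjac f List.mem_cons_self) hreg.1 P, ih (R ⊔ Ideal.span {f})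
      (fun g hg ↦ hjac g (List.mem_cons_of_mem _ hg))
      (((quotSMulRingEquiv R f).isWeaklyRegular_congr fs).mp hreg.2) P, isWeaklyRegular_cons_iff,
      Ideal.ofList_cons, sup_assoc, (quotSMulEquiv R f P).isWeaklyRegular_congr fs]
    tauto

/-- Flatness over `A ⧸ R` from flatness modulo `(fs)` and regularity at the associated primes. -/
theorem fl_of_regAt (fs : List A) : ∀ (R : Ideal A), (∀ f ∈ fs, f ∈ (⊥ : Ideal A).jacobson) →
    IsWeaklyRegular (A ⧸ R) fs → ∀ (P : Type u) [AddCommGroup P] [Module A P] [Module.Finite A P],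
      Fl (R ⊔ Ideal.ofList fs) P →
      (∀ q ∈ associatedPrimes A (A ⧸ (R ⊔ Ideal.ofList fs)),
        RegAt q fs (P ⧸ (R • ⊤ : Submodule A P))) → Fl R P := by
  induction fs with
  | nil =>
    intro R _ _ P _ _ _ h _
    rwa [Ideal.ofList_nil, sup_bot_eq] at h
  | cons f fs ih =>
    intro R hjac hreg P _ _ _ hfl hloc
    have hf := hjac f List.mem_cons_self
    have hjac' : ∀ g ∈ fs, g ∈ (⊥ : Ideal A).jacobson := fun g hg ↦
      hjac g (List.mem_cons_of_mem _ hg)
    rw [isWeaklyRegular_cons_iff] at hreg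
    set R' := R ⊔ Ideal.span {f}
    have hreg' : IsWeaklyRegular (A ⧸ R') fs :=
      ((quotSMulRingEquiv R f).isWeaklyRegular_congr fs).mp hreg.2
    have hQ : R ⊔ Ideal.ofList (f :: fs) = R' ⊔ Ideal.ofList fs := by
      rw [Ideal.ofList_cons, sup_assoc]
    rw [hQ] at hfl hloc
    have hfl' : Fl R' P := ih R' hjac' hreg' P hfl fun q hq ↦
      (hloc q hq).2.congr (quotSMulEquiv R f P)
    refine (fl_step R hf hreg.1 P).mpr ⟨hfl', ?_⟩
    rw [isSMulRegular_iff_right_eq_zero_of_smul]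
    intro x hx
    -- elements killed by a power of `f` are divisible by `f`
    have key : ∀ (j : ℕ) (x : P ⧸ (R • ⊤ : Submodule A P)), f ^ j • x = 0 →
        x ∈ f • (⊤ : Submodule A (P ⧸ (R • ⊤ : Submodule A P))) := by
      intro j x hx
      obtain ⟨s, hs, hsx⟩ := exists_isSMulRegular_smul_eq_zero (R' ⊔ Ideal.ofList fs) x fun q hq ↦ by
        clear * - hq hx hloc
        induction j generalizing x with
        | zero => exact ⟨1, (Ideal.ne_top_iff_one q).mp hq.1.ne_top, by simpa using hx⟩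
        | succ j hj =>
          rw [pow_succ', mul_smul] at hx
          obtain ⟨t, ht, htx⟩ := (hloc q hq).1 _ hx
          obtain ⟨t', ht', htx'⟩ := hj (t • x) (by rw [smul_comm]; exact htx)
          exact ⟨t' * t, fun h ↦ (hq.1.mem_or_mem h).elim ht' ht, by rw [mul_smul]; exact htx'⟩
      have hs' : IsSMulRegular (A ⧸ R') s :=
        isSMulRegular_of_quot fs hjac' hreg' s <| by
          have e : ((A ⧸ R') ⧸ (Ideal.ofList fs • ⊤ : Submodule A (A ⧸ R'))) ≃ₗ[A]
              A ⧸ (R' ⊔ Ideal.ofList fs) :=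
            (Submodule.quotEquivOfEq _ _ (by rw [Submodule.map_smul'', Submodule.map_top,
              Submodule.range_mkQ])).trans
              ((Submodule.quotientQuotientEquivQuotientSup R' (Ideal.ofList fs • ⊤)).trans
                (Submodule.quotEquivOfEq _ _ (by simp)))
          exact (e.isSMulRegular_congr s).mpr hs
      obtain ⟨m, g₀, hg₀⟩ := Module.Finite.exists_fin' (A ⧸ R') (P ⧸ (R' • ⊤ : Submodule A P))
      obtain ⟨σ, hσ⟩ := (fl_iff g₀ hg₀).mp hfl'
      obtain ⟨p, rfl⟩ := Submodule.Quotient.mk_surjective _ x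
      have h0 : σ (Submodule.Quotient.mk p) = 0 := funext fun i ↦ hs'.right_eq_zero_of_smul <| by
        have hp : s • p ∈ R' • (⊤ : Submodule A P) :=
          Submodule.smul_mono_left le_sup_left ((Submodule.Quotient.mk_eq_zero _).mp hsx)
        rw [← Pi.smul_apply, ← map_smul, ← Submodule.Quotient.mk_smul,
          (Submodule.Quotient.mk_eq_zero _).mpr hp, map_zero, Pi.zero_apply]
      have hp : (Submodule.Quotient.mk p : P ⧸ (R' • ⊤ : Submodule A P)) = 0 := by
        rw [← hσ (Submodule.Quotient.mk p), h0, map_zero]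
      rw [← Submodule.Quotient.mk_eq_zero]
      exact (quotSMulEquiv R f P).injective (hp.trans (map_zero _).symm)
    have hmem : ∀ (j i : ℕ) (x : P ⧸ (R • ⊤ : Submodule A P)), f ^ i • x = 0 →
        x ∈ Ideal.span {f} ^ j • (⊤ : Submodule A (P ⧸ (R • ⊤ : Submodule A P))) := by
      intro j
      induction j with
      | zero => simp
      | succ j hj =>
        intro i x hx
        obtain ⟨y, -, rfl⟩ := (Submodule.mem_smul_pointwise_iff_exists _ _ _).mp (key i x hx)
        rw [pow_succ', Submodule.mul_smul]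
        exact Submodule.smul_mem_smul (Ideal.mem_span_singleton_self f)
          (hj (i + 1) y (by rw [pow_succ, mul_smul]; exact hx))
    rw [← Submodule.mem_bot A, ← Ideal.iInf_pow_smul_eq_bot_of_le_jacobson
      (M := P ⧸ (R • ⊤ : Submodule A P)) _ ((Ideal.span_singleton_le_iff_mem _).mpr hf),
      Submodule.mem_iInf]
    exact fun j ↦ hmem j 1 x (by rw [pow_one]; exact hx)

end Groth.Agent.CInt15
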