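import Mathlib
import Groth.Agent.CAlgH3.FlatDepth
import Groth.Agent.CAlgH.CIScheme

set_option autoImplicit false

universe u

open CategoryTheory AlgebraicGeometry IsLocalRing

namespace Groth.Agent.CInt15

/-- For a flat morphism, the depth of a stalk is at least the depth of the fibre stalk. -/
theorem depth_fiberStalk_le {X S : Scheme.{u}} [IsLocallyNoetherian X] [IsLocallyNoetherian S]
    (f : X ⟶ S) [Flat f] (x : X) :
    LocCoh.depth ↑(CInt.fiberStalk f x) ↑(CInt.fiberStalk f x) ≤
      LocCoh.depth ↑(X.presheaf.stalk x) ↑(X.presheaf.stalk x) := by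
  letI : Algebra (S.presheaf.stalk (f x)) (X.presheaf.stalk x) := (f.stalkMap x).hom.toAlgebra
  haveI : IsLocalHom (algebraMap (S.presheaf.stalk (f x)) (X.presheaf.stalk x)) :=
    inferInstanceAs (IsLocalHom (f.stalkMap x).hom)
  haveI : Module.Flat (S.presheaf.stalk (f x)) (X.presheaf.stalk x) := Flat.stalkMap f x
  obtain ⟨e⟩ := Groth.Agent.CAlgH.CIScheme.fiberStalk_equiv f x
  let I := (maximalIdeal (S.presheaf.stalk (f x))).map (algebraMap (S.presheaf.stalk (f x)) (X.presheaf.stalk x))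
  haveI : IsLocalRing (↥(X.presheaf.stalk x) ⧸ I) := e.symm.isLocalRing
  rw [← Groth.Agent.CAlgH3.depth_ringEquiv e]
  change LocCoh.depth (↥(X.presheaf.stalk x) ⧸ I) (↥(X.presheaf.stalk x) ⧸ I) ≤ _
  rw [Groth.Agent.CAlgH3.depth_quotient_ring I]
  exact le_add_self.trans Groth.Agent.CAlgH3.depth_add_depth_fibre_le_self

end Groth.Agent.CInt15
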